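import Mathlib.GroupTheory.Sylow

/-!
The shape of Glauberman's Z*-theorem used by its applications in this folder.
-/

set_option autoImplicit false

namespace CfsgLib.ZStarApps

universe u

/-- The Z*-theorem as a proposition about all finite groups in a universe. -/
def ZStarShape : Prop :=
  ∀ (H : Type u) [Group H] [Finite H] (P : Sylow 2 H) (x : H), orderOf x = 2 → x ∈ P →
    (∀ g : H, g * x * g⁻¹ ∈ P → g * x * g⁻¹ = x) →
      ∃ N : Subgroup H, N.Normal ∧ Odd (Nat.card N) ∧ ∀ g : H, x * g * x⁻¹ * g⁻¹ ∈ N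

end CfsgLib.ZStarApps
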