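import Cfsg.Agent.ZStarApps.Hyp
import Cfsg.Agent.ZStar.Theorem

/-!
Glauberman's Z*-theorem in the shape used by the applications.
-/

set_option autoImplicit false

namespace CfsgLib.ZStarApps

universe u

theorem zStarShape : ZStarShape.{u} := fun _ _ _ P _ hx _ hiso =>
  CfsgLib.ZStar.exists_normal_odd_of_no_fusion hx P hiso

end CfsgLib.ZStarApps
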